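import Groth.Agent.Lib.ParPerm20.Pivot
import Mathlib.Data.Finset.Max
import Mathlib.Tactic.LinearCombination

/-!
# Exactness of the complex of parabolic permutation modules
-/

set_option autoImplicit false
set_option linter.unusedSectionVars false

noncomputable section

namespace GrothLib.ParPerm20

open Matrix W4c3dlvarstrsh

variable {F : Type*} [Field F] {R : Type*} [CommRing R] {m r : ℕ}

theorem sgn_sq (T : Finset (Fin r)) (a : Fin r) : (sgn T a : R) * sgn T a = 1 := by
  unfold sgn
  push_cast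
  rw [← mul_pow, neg_one_mul, neg_neg, one_pow]

theorem sgn_anti (T : Finset (Fin r)) {a b : Fin r} (hab : a ≠ b) (ha : a ∉ T) (hb : b ∉ T) :
    (sgn T a : R) * sgn (insert a T) b = -((sgn T b : R) * sgn (insert b T) a) := by
  wlog h : a < b generalizing a b
  · rw [this hab.symm hb ha (lt_of_le_of_ne (not_lt.1 h) hab.symm), neg_neg]
  have h1 : ((insert a T).filter (fun t => t < b)).card = (T.filter (fun t => t < b)).card + 1 := by
    rw [Finset.filter_insert, if_pos h, Finset.card_insert_of_notMem (fun hm => ha (Finset.mem_filter.1 hm).1)]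
  have h2 : ((insert b T).filter (fun t => t < a)).card = (T.filter (fun t => t < a)).card := by
    rw [Finset.filter_insert, if_neg (not_lt.2 h.le)]
  unfold sgn
  rw [h1, h2]
  push_cast
  ring

/-- A family extended by zero to all subwords. -/
def ext0 {c : ℕ} (f : Cochain F R (m := m) r c) (U : Finset (Fin r)) (g : GL (Fin (m + 1)) F) : R :=
  if h : U.card = c then f ⟨U, h⟩ g else 0

theorem ext0_apply {c : ℕ} (f : Cochain F R (m := m) r c) (T : {T : Finset (Fin r) // T.card = c})
    (g : GL (Fin (m + 1)) F) : ext0 f T.1 g = f T g := dif_pos T.2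

theorem delta_apply {c : ℕ} (f : Cochain F R (m := m) r (c + 1)) (T : {T : Finset (Fin r) // T.card = c})
    (g : GL (Fin (m + 1)) F) : delta c f T g =
      ∑ a ∈ Finset.univ.filter (fun a => a ∉ T.1), (sgn T.1 a : R) * ext0 f (insert a T.1) g := by
  rw [Finset.sum_filter]
  refine Finset.sum_congr rfl fun a _ => ?_
  by_cases h : a ∉ T.1
  · rw [dif_pos h, if_pos h]
    exact congrArg (_ * ·) (ext0_apply f ⟨insert a T.1, _⟩ g).symm
  · rw [dif_neg h, if_neg h]

theorem delta_sub {c : ℕ} (f f' : Cochain F R (m := m) r (c + 1)) : delta c (f - f') = delta c f - delta c f' := by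
  funext T g
  simp only [delta, Pi.sub_apply, ← Finset.sum_sub_distrib]
  refine Finset.sum_congr rfl fun a _ => ?_
  split <;> ring

theorem delta_add {c : ℕ} (f f' : Cochain F R (m := m) r (c + 1)) : delta c (f + f') = delta c f + delta c f' := by
  funext T g
  simp only [delta, Pi.add_apply, ← Finset.sum_add_distrib]
  refine Finset.sum_congr rfl fun a _ => ?_
  split <;> ring

theorem delta_delta {c : ℕ} (f : Cochain F R (m := m) r (c + 2)) : delta c (delta (c + 1) f) = 0 := by
  funext T g
  rw [delta_apply, Pi.zero_apply, Pi.zero_apply]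
  have h : ∀ a ∈ Finset.univ.filter (fun a => a ∉ T.1),
      (sgn T.1 a : R) * ext0 (delta (c + 1) f) (insert a T.1) g =
        ∑ b ∈ Finset.univ.filter (fun b => b ∉ insert a T.1),
          (sgn T.1 a : R) * ((sgn (insert a T.1) b : R) * ext0 f (insert b (insert a T.1)) g) := fun a ha => by
    have hc : (insert a T.1).card = c + 1 := by
      rw [Finset.card_insert_of_notMem (Finset.mem_filter.1 ha).2, T.2]
    rw [show ext0 (delta (c + 1) f) (insert a T.1) g = delta (c + 1) f ⟨insert a T.1, hc⟩ g from dif_pos hc,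
      delta_apply, Finset.mul_sum]
  rw [Finset.sum_congr rfl h, Finset.sum_sigma']
  refine Finset.sum_involution (fun x _ => ⟨x.2, x.1⟩) (fun x hx => ?_) (fun x hx _ => ?_) (fun x hx => ?_)
    (fun x _ => rfl)
  · simp only [Finset.mem_sigma, Finset.mem_filter, Finset.mem_univ, true_and, Finset.mem_insert, not_or] at hx
    rw [← mul_assoc, ← mul_assoc, Finset.insert_comm x.1 x.2, sgn_anti T.1 (Ne.symm hx.2.1) hx.1 hx.2.2]
    ring
  · simp only [Finset.mem_sigma, Finset.mem_filter, Finset.mem_univ, true_and, Finset.mem_insert, not_or] at hx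
    intro e
    exact hx.2.1 (congrArg Sigma.fst e)
  · simp only [Finset.mem_sigma, Finset.mem_filter, Finset.mem_univ, true_and, Finset.mem_insert, not_or] at hx ⊢
    exact ⟨hx.2.2, Ne.symm hx.2.1, hx.1⟩

variable (ω : Fin r ↪ Fin m)

/-- The ascents of a class. -/
def asc (g : GL (Fin (m + 1)) F) : Finset (Fin r) :=
  Finset.univ.filter fun t => piv g (ω t).castSucc < piv g (ω t).succ

theorem subset_asc_iff {T : Finset (Fin r)} {g : GL (Fin (m + 1)) F} :
    T ⊆ asc ω g ↔ ∀ k ∈ T.map ω, piv g k.castSucc < piv g k.succ := by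
  simp [asc, Finset.subset_iff]

theorem asc_mul {g b : GL (Fin (m + 1)) F} (hb : b ∈ parabolic F (∅ : Finset (Fin m))) :
    asc ω (g * b) = asc ω g := by
  rw [asc, piv_mul hb]
  rfl

theorem isInduced_delta {c : ℕ} {f : Cochain F R (m := m) r (c + 1)} (hf : IsInduced ω f) :
    IsInduced ω (delta c f) := fun T g p hp => Finset.sum_congr rfl fun a _ => by
  split
  · rename_i h
    exact congrArg (_ * ·) (hf _ g p (parabolic_mono (Finset.map_subset_map.2 (Finset.subset_insert _ _)) hp))
  · rfl

variable {c : ℕ} (f : Cochain F R (m := m) r (c + 1))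

/-- The contracting value on a subword at a representative. -/
def contract (T : Finset (Fin r)) (x : GL (Fin (m + 1)) F) : R :=
  if h : (asc ω x).Nonempty then
    if (asc ω x).min' h ∈ T then (sgn (T.erase ((asc ω x).min' h)) ((asc ω x).min' h) : R) *
      ext0 f (T.erase ((asc ω x).min' h)) x
    else 0
  else 0

variable {f}

theorem contract_mul (hf : IsInduced ω f) (T : Finset (Fin r)) {x b : GL (Fin (m + 1)) F}
    (hb : b ∈ parabolic F (∅ : Finset (Fin m))) : contract ω f T (x * b) = contract ω f T x := by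
  have he : ∀ U, ext0 f U (x * b) = ext0 f U x := fun U => by
    by_cases h : U.card = c + 1
    · rw [ext0, dif_pos h, ext0, dif_pos h]
      exact hf _ _ _ (parabolic_mono (Finset.empty_subset _) hb)
    · rw [ext0, dif_neg h, ext0, dif_neg h]
  simp only [contract, asc_mul ω hb, he]

theorem vanish_not_subset (hf : IsInduced ω f) (n : ℕ)
    (hv : ∀ T g, n < pot (piv g) → f T g = 0) (T : {T : Finset (Fin r) // T.card = c + 1})
    (g : GL (Fin (m + 1)) F) (hn : n ≤ pot (piv g)) (hT : ¬ T.1 ⊆ asc ω g) : f T g = 0 := by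
  rw [subset_asc_iff] at hT
  push Not at hT
  obtain ⟨k, hk, hd⟩ := hT
  obtain ⟨q, hq, hlt⟩ := exists_pot_lt g hk (not_lt.2 hd)
  rw [← hf T g q hq]
  exact hv _ _ (lt_of_le_of_lt hn hlt)

theorem exact_step (hf : IsInduced ω f) (hd : delta c f = 0) (n : ℕ) (hv : ∀ T g, n < pot (piv g) → f T g = 0) :
    ∃ g₀ : Cochain F R (m := m) r (c + 2), IsInduced ω g₀ ∧
      ∀ T g, n ≤ pot (piv g) → (f - delta (c + 1) g₀) T g = 0 := by
  classical
  let Q : Finset (Fin r) → GL (Fin (m + 1)) F → GL (Fin (m + 1)) F → Prop := fun T' h x =>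
    x⁻¹ * h ∈ parabolic F (T'.map ω) ∧ T' ⊆ asc ω x ∧ pot (piv x) = n
  let g₀ : Cochain F R (m := m) r (c + 2) := fun T' h =>
    if hx : ∃ x, Q T'.1 h x then contract ω f T'.1 hx.choose else 0
  have hQmul : ∀ (T' : Finset (Fin r)) h p x, p ∈ parabolic F (T'.map ω) → (Q T' (h * p) x ↔ Q T' h x) :=
    fun T' h p x hp => by
      simp only [Q, ← mul_assoc, Subgroup.mul_mem_cancel_right _ hp]
  have hval : ∀ (T' : {T : Finset (Fin r) // T.card = c + 2}) h x, Q T'.1 h x → g₀ T' h = contract ω f T'.1 x := by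
    intro T' h x hx
    have hex : ∃ x, Q T'.1 h x := ⟨x, hx⟩
    change (if hx : ∃ x, Q T'.1 h x then contract ω f T'.1 hx.choose else 0) = _
    rw [dif_pos hex]
    obtain ⟨h1, h2, -⟩ := hex.choose_spec
    have hp : hex.choose⁻¹ * x ∈ parabolic F (T'.1.map ω) := by
      have := Subgroup.mul_mem _ h1 (Subgroup.inv_mem _ hx.1)
      rwa [_root_.mul_inv_rev, inv_inv, mul_assoc, mul_inv_cancel_left] at this
    have hb := unique_best hp ((subset_asc_iff ω).1 h2)
      (by rw [mul_inv_cancel_left]; exact (subset_asc_iff ω).1 hx.2.1)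
    have he := contract_mul ω hf T'.1 (x := hex.choose) hb
    rw [mul_inv_cancel_left] at he
    exact he.symm
  have hnone : ∀ (T' : {T : Finset (Fin r) // T.card = c + 2}) h, n < pot (piv h) ∨
      (n ≤ pot (piv h) ∧ ¬ T'.1 ⊆ asc ω h) → g₀ T' h = 0 := by
    intro T' h hcase
    refine dif_neg fun ⟨x, hx1, hx2, hx3⟩ => ?_
    obtain ⟨q, hq, hq1, hq2, hq3⟩ := exists_best (T'.1.map ω) h
    have hp : x⁻¹ * (h * q) ∈ parabolic F (T'.1.map ω) := by
      rw [← mul_assoc]
      exact Subgroup.mul_mem _ hx1 hq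
    have hb := unique_best hp ((subset_asc_iff ω).1 hx2) (by rw [mul_inv_cancel_left]; exact hq1)
    have he := piv_mul (g := x) hb
    rw [mul_inv_cancel_left] at he
    rw [he, hx3] at hq2 hq3
    rcases hcase with hlt | ⟨hle, hT⟩
    · omega
    · rw [subset_asc_iff] at hT
      push Not at hT
      obtain ⟨k, hk, hkd⟩ := hT
      have := hq3 ⟨k, hk, not_lt.2 hkd⟩
      omega
  refine ⟨g₀, fun T' g p hp => ?_, fun T g hg => ?_⟩
  · by_cases hx : ∃ x, Q T'.1 g x
    · obtain ⟨x, hx⟩ := hx
      rw [hval T' g x hx, hval T' _ x ((hQmul _ _ _ _ hp).2 hx)]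
    · rw [show g₀ T' g = 0 from dif_neg hx]
      exact dif_neg fun ⟨x, h⟩ => hx ⟨x, (hQmul _ _ _ _ hp).1 h⟩
  rcases eq_or_lt_of_le hg with hn | hn
  swap
  · rw [Pi.sub_apply, Pi.sub_apply, hv T g hn, delta_apply, Finset.sum_eq_zero, sub_zero]
    intro a ha
    rw [ext0, dif_pos (by rw [Finset.card_insert_of_notMem (Finset.mem_filter.1 ha).2, T.2]),
      hnone _ _ (Or.inl hn), mul_zero]
  rw [Pi.sub_apply, Pi.sub_apply, sub_eq_zero]
  have hext : ∀ a ∈ Finset.univ.filter (fun a => a ∉ T.1), ext0 g₀ (insert a T.1) g =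
      if insert a T.1 ⊆ asc ω g then contract ω f (insert a T.1) g else 0 := fun a ha => by
    have hc : (insert a T.1).card = c + 2 := by
      rw [Finset.card_insert_of_notMem (Finset.mem_filter.1 ha).2, T.2]
    rw [ext0, dif_pos hc]
    split
    · rename_i hsub
      exact hval ⟨_, hc⟩ g g ⟨by rw [inv_mul_cancel]; exact Subgroup.one_mem _, hsub, hn.symm⟩
    · rename_i hsub
      exact hnone ⟨_, hc⟩ g (Or.inr ⟨hg, hsub⟩)
  rw [delta_apply, Finset.sum_congr rfl fun a ha => by rw [hext a ha]]
  by_cases hT : T.1 ⊆ asc ω g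
  swap
  · rw [vanish_not_subset ω hf n hv T g hg hT, eq_comm]
    exact Finset.sum_eq_zero fun a _ => by
      rw [if_neg fun h => hT ((Finset.subset_insert _ _).trans h), mul_zero]
  have hne : (asc ω g).Nonempty := (Finset.card_pos.1 (by rw [T.2]; omega : 0 < T.1.card)).mono hT
  let a₀ := (asc ω g).min' hne
  have ha₀ : a₀ ∈ asc ω g := Finset.min'_mem _ _
  have hcon : ∀ U, contract ω f U g = if a₀ ∈ U then (sgn (U.erase a₀) a₀ : R) * ext0 f (U.erase a₀) g else 0 :=
    fun U => dif_pos hne
  by_cases hmem : a₀ ∈ T.1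
  · let U := T.1.erase a₀
    have hU : U.card = c := by rw [Finset.card_erase_of_mem hmem, T.2, Nat.add_sub_cancel]
    have hTU : insert a₀ U = T.1 := Finset.insert_erase hmem
    have ha₀U : a₀ ∉ U := Finset.notMem_erase _ _
    have h0 : (∑ a ∈ Finset.univ.filter (fun a => a ∉ U), (sgn U a : R) * ext0 f (insert a U) g) = 0 :=
      (delta_apply f ⟨U, hU⟩ g).symm.trans (congrFun (congrFun hd ⟨U, hU⟩) g)
    have hfilt : Finset.univ.filter (fun a => a ∉ U) = insert a₀ (Finset.univ.filter (fun a => a ∉ T.1)) := by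
      ext a
      simp only [Finset.mem_filter, Finset.mem_univ, true_and, Finset.mem_insert]
      rw [← hTU, Finset.mem_insert]
      rcases eq_or_ne a a₀ with e | e <;> simp [e, ha₀U]
    rw [hfilt, Finset.sum_insert (by simp [hmem]), hTU, ext0_apply] at h0
    have hfinal : f T g = -((sgn U a₀ : R) * ∑ a ∈ Finset.univ.filter (fun a => a ∉ T.1),
        (sgn U a : R) * ext0 f (insert a U) g) := by
      linear_combination (sgn U a₀ : R) * h0 - f T g * sgn_sq (R := R) U a₀
    rw [hfinal, Finset.mul_sum, ← Finset.sum_neg_distrib]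
    refine Finset.sum_congr rfl fun a ha => ?_
    have haT : a ∉ T.1 := (Finset.mem_filter.1 ha).2
    have hne' : a ≠ a₀ := fun e => haT (e ▸ hmem)
    have hers : (insert a T.1).erase a₀ = insert a U := Finset.erase_insert_of_ne hne'
    have hcard : (insert a U).card = c + 1 := by
      rw [Finset.card_insert_of_notMem (fun h => haT (Finset.mem_of_mem_erase h)), hU]
    rw [hcon, if_pos (Finset.mem_insert_of_mem hmem), hers]
    split
    · have hanti := sgn_anti (R := R) U hne'.symm ha₀U (fun h => haT (Finset.mem_of_mem_erase h))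
      rw [hTU] at hanti
      linear_combination (-(sgn U a₀ : R) * (sgn (insert a U) a₀ : R) * ext0 f (insert a U) g) * hanti +
        (sgn T.1 a : R) * (sgn (insert a U) a₀ : R) * ext0 f (insert a U) g * sgn_sq (R := R) U a₀ +
        (sgn U a₀ : R) * (sgn U a : R) * ext0 f (insert a U) g * sgn_sq (R := R) (insert a U) a₀
    · rename_i hsub
      rw [mul_zero]
      have hsub' : ¬ insert a U ⊆ asc ω g := fun h => hsub (by
        rw [← hTU]
        intro z hz
        simp only [Finset.mem_insert] at hz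
        rcases hz with rfl | rfl | hz
        · exact h (Finset.mem_insert_self _ _)
        · exact ha₀
        · exact h (Finset.mem_insert_of_mem hz))
      rw [ext0, dif_pos hcard, vanish_not_subset ω hf n hv ⟨_, hcard⟩ g hg hsub', mul_zero, mul_zero, neg_zero]
  · rw [Finset.sum_eq_single a₀]
    · rw [if_pos (Finset.insert_subset ha₀ hT), hcon, if_pos (Finset.mem_insert_self _ _),
        Finset.erase_insert hmem, ext0_apply, ← mul_assoc, sgn_sq, one_mul]
    · intro a _ hane
      have hn' : a₀ ∉ insert a T.1 := by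
        rw [Finset.mem_insert]
        exact fun h => h.elim hane.symm hmem
      simp [hcon, hn']
    · intro h
      exact absurd (by simp [hmem]) h

theorem exact_of_vanish : ∀ (n : ℕ) {f : Cochain F R (m := m) r (c + 1)}, IsInduced ω f → delta c f = 0 →
    (∀ T g, n ≤ pot (piv g) → f T g = 0) → ∃ g, IsInduced ω g ∧ delta (c + 1) g = f
  | 0, f, _, _, hv => ⟨0, fun _ _ _ _ => rfl, by
      funext T g
      rw [hv T g (Nat.zero_le _), delta_apply]
      exact Finset.sum_eq_zero fun a _ => by simp [ext0]⟩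
  | n + 1, f, hf, hd, hv => by
      obtain ⟨g₀, hg₀, hv'⟩ := exact_step ω hf hd n hv
      obtain ⟨g₁, hg₁, h⟩ := exact_of_vanish n (f := f - delta (c + 1) g₀)
        (fun T g p hp => by simp only [Pi.sub_apply, hf T g p hp, isInduced_delta ω hg₀ T g p hp])
        (by rw [delta_sub, hd, delta_delta, sub_zero]) hv'
      exact ⟨g₀ + g₁, fun T g p hp => by simp only [Pi.add_apply, hg₀ T g p hp, hg₁ T g p hp],
        by rw [delta_add, h, add_sub_cancel]⟩

theorem exists_delta_eq (hf : IsInduced ω f) (hd : delta c f = 0) :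
    ∃ g, IsInduced ω g ∧ delta (c + 1) g = f :=
  exact_of_vanish ω ((m + 1) * (m * m) + 1) hf hd fun _ g hg => absurd (pot_le (piv g)) (by omega)

end GrothLib.ParPerm20
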