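import Groth.Prelude.Def_W4c3dlvarstrshPar
import Mathlib.LinearAlgebra.Matrix.NonsingularInverse
import Mathlib.GroupTheory.Perm.Basic
import Mathlib.LinearAlgebra.Matrix.Swap
import Mathlib.Algebra.Order.BigOperators.Group.Finset

/-!
# Pivots of matrices up to upper triangular column operations
-/

set_option autoImplicit false
set_option linter.unusedSectionVars false

noncomputable section

namespace GrothLib.ParPerm20

open Matrix W4c3dlvarstrsh

variable {F : Type*} [Field F] {m : ℕ}

theorem blockOf_mono (J : Finset (Fin m)) {i j : Fin (m + 1)} (h : i ≤ j) : blockOf J i ≤ blockOf J j :=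
  Finset.card_le_card fun k hk => by
    simp only [Finset.mem_filter, Finset.mem_univ, true_and] at hk ⊢
    exact ⟨lt_of_lt_of_le hk.1 h, hk.2⟩

theorem blockOf_lt_iff (J : Finset (Fin m)) {i j : Fin (m + 1)} :
    blockOf J i < blockOf J j ↔ ∃ k : Fin m, i.val ≤ k.val ∧ k.val < j.val ∧ k ∉ J := by
  constructor
  · intro h
    by_contra hne
    push Not at hne
    refine absurd h (not_lt.2 (Finset.card_le_card fun k hk => ?_))
    simp only [Finset.mem_filter, Finset.mem_univ, true_and] at hk ⊢
    refine ⟨?_, hk.2⟩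
    by_contra hki
    exact hk.2 (hne k (not_lt.1 hki) hk.1)
  · rintro ⟨k, hik, hkj, hk⟩
    refine Finset.card_lt_card (Finset.ssubset_iff_of_subset ?_ |>.2 ⟨k, ?_, ?_⟩)
    · intro l hl
      simp only [Finset.mem_filter, Finset.mem_univ, true_and] at hl ⊢
      exact ⟨by omega, hl.2⟩
    · simp only [Finset.mem_filter, Finset.mem_univ, true_and]
      exact ⟨hkj, hk⟩
    · simp only [Finset.mem_filter, Finset.mem_univ, true_and, not_and, not_not]
      intro h
      omega

theorem parabolic_mono {J J' : Finset (Fin m)} (h : J ⊆ J') : parabolic F J ≤ parabolic F J' := by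
  intro g hg i j hij
  obtain ⟨k, h1, h2, h3⟩ := (blockOf_lt_iff J').1 hij
  exact hg ((blockOf_lt_iff J).2 ⟨k, h1, h2, fun hk => h3 (h hk)⟩)

theorem blockOf_empty_lt {i j : Fin (m + 1)} (h : i < j) : blockOf (∅ : Finset (Fin m)) i < blockOf ∅ j :=
  (blockOf_lt_iff ∅).2 ⟨⟨i.val, by omega⟩, le_rfl, h, Finset.notMem_empty _⟩

/-- `π` records the lowest nonzero entry of each column. -/
def Piv (h : Matrix (Fin (m + 1)) (Fin (m + 1)) F) (π : Equiv.Perm (Fin (m + 1))) : Prop :=
  ∀ j, h (π j) j ≠ 0 ∧ ∀ i, π j < i → h i j = 0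

/-- The permutation increases inside the blocks. -/
def IncrOn (J : Finset (Fin m)) (π : Equiv.Perm (Fin (m + 1))) : Prop :=
  ∀ i j, i < j → blockOf J i = blockOf J j → π i < π j

theorem piv_span {h : Matrix (Fin (m + 1)) (Fin (m + 1)) F} {π : Equiv.Perm (Fin (m + 1))} (hπ : Piv h π)
    (c : Fin (m + 1) → F) {j : Fin (m + 1)} (hj : c j ≠ 0) (k : Fin (m + 1))
    (hk : ∀ i, k < i → (h *ᵥ c) i = 0) : π j ≤ k := by
  classical
  let s := Finset.univ.filter fun l => c l ≠ 0
  obtain ⟨l, hl, hmax⟩ := Finset.exists_max_image s π ⟨j, by simp [s, hj]⟩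
  refine le_trans (hmax j (by simp [s, hj])) ?_
  by_contra hlt
  have h0 := hk (π l) (lt_of_not_ge hlt)
  have hsum : (h *ᵥ c) (π l) = h (π l) l * c l := by
    refine Finset.sum_eq_single l (fun b _ hb => ?_) (fun hn => absurd (Finset.mem_univ l) hn)
    change h (π l) b * c b = 0
    by_cases hcb : c b = 0
    · rw [hcb, mul_zero]
    · rw [(hπ b).2 (π l) (lt_of_le_of_ne (hmax b (by simp [s, hcb])) fun e => hb (π.injective e)), zero_mul]
  rw [hsum] at h0
  simp only [s, Finset.mem_filter] at hl
  exact mul_ne_zero (hπ l).1 hl.2 h0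

theorem piv_span_exists {h : Matrix (Fin (m + 1)) (Fin (m + 1)) F} {π : Equiv.Perm (Fin (m + 1))} (hπ : Piv h π)
    (c : Fin (m + 1) → F) (k : Fin (m + 1)) (hk : (h *ᵥ c) k ≠ 0) : ∃ j, c j ≠ 0 ∧ k ≤ π j := by
  by_contra hne
  push Not at hne
  refine hk (show ∑ j, h k j * c j = 0 from Finset.sum_eq_zero fun j _ => ?_)
  by_cases hcj : c j = 0
  · rw [hcj, mul_zero]
  · rw [(hπ j).2 k (hne j hcj), zero_mul]

theorem mulVec_col (h p : Matrix (Fin (m + 1)) (Fin (m + 1)) F) (i k : Fin (m + 1)) :
    (h *ᵥ fun j => p j i) k = (h * p) k i := rfl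

/-- Pivots increasing inside blocks are unique in a coset of the parabolic subgroup. -/
theorem piv_unique (J : Finset (Fin m)) {h p : GL (Fin (m + 1)) F} (hp : p ∈ parabolic F J)
    {π π' : Equiv.Perm (Fin (m + 1))}
    (hπ : Piv (h : Matrix (Fin (m + 1)) (Fin (m + 1)) F) π) (hπ' : Piv (↑(h * p) : Matrix (Fin (m + 1)) (Fin (m + 1)) F) π')
    (hi : IncrOn J π) (hi' : IncrOn J π') : π' = π ∧ p ∈ parabolic F (∅ : Finset (Fin m)) := by
  classical
  rw [Units.val_mul] at hπ'
  let P : Matrix (Fin (m + 1)) (Fin (m + 1)) F := p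
  let H : Matrix (Fin (m + 1)) (Fin (m + 1)) F := h
  have hsup : ∀ i j, P j i ≠ 0 → blockOf J j ≤ blockOf J i := fun i j hne => not_lt.1 fun hlt => hne (hp hlt)
  have hle : ∀ i j, P j i ≠ 0 → π j ≤ π' i := fun i j hne =>
    piv_span hπ (fun l => P l i) hne (π' i) fun k hk => (mulVec_col H P i k).trans ((hπ' i).2 k hk)
  have hex : ∀ i, ∃ j, blockOf J j ≤ blockOf J i ∧ π j = π' i := fun i => by
    obtain ⟨j, hj, hj'⟩ := piv_span_exists hπ (fun l => P l i) (π' i) (hπ' i).1
    exact ⟨j, hsup i j hj, le_antisymm (hle i j hj) hj'⟩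
  have hblk : ∀ i, blockOf J (π.symm (π' i)) = blockOf J i := by
    intro i
    let σ := π'.trans π.symm
    have hle' : ∀ l, blockOf J (σ l) ≤ blockOf J l := fun l => by
      obtain ⟨j, hj, hj'⟩ := hex l
      rw [show σ l = j from by simp [σ, ← hj']]
      exact hj
    have hsum : ∑ l, blockOf J (σ l) = ∑ l, blockOf J l := Equiv.sum_comp σ (blockOf J)
    exact (Finset.sum_eq_sum_iff_of_le fun l _ => hle' l).1 hsum i (Finset.mem_univ i)
  have hid : ∀ n, ∀ i : Fin (m + 1), i.val = n → π.symm (π' i) = i := by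
    intro n
    induction n using Nat.strong_induction_on with
    | h n ih =>
      intro i hin
      by_contra hne
      rcases lt_or_gt_of_ne hne with hlt | hgt
      · have h1 := ih _ (by omega : (π.symm (π' i)).val < n) (π.symm (π' i)) rfl
        exact hne (π'.injective (π.symm.injective h1))
      · let k := π'.symm (π i)
        have hk : π.symm (π' k) = i := by simp [k]
        rcases lt_trichotomy k i with hki | hki | hki
        · exact hki.ne ((ih _ (by omega : k.val < n) k rfl).symm.trans hk)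
        · exact hne (hki ▸ hk)
        · have h1 : π' i < π' k := hi' i k hki ((congrArg (blockOf J) hk.symm).trans (hblk k))
          have h2 := hi i _ hgt (hblk i).symm
          simp only [Equiv.apply_symm_apply, k] at h1 h2
          exact lt_asymm h1 h2
  have heq : π' = π := Equiv.ext fun i => by
    have := congrArg π (hid _ i rfl)
    simpa using this
  refine ⟨heq, fun j i hji => ?_⟩
  by_contra hne
  have hlt : i < j := by
    by_contra hge
    exact absurd hji (not_lt.2 (blockOf_mono _ (not_lt.1 hge)))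
  have h1 := hle i j hne
  rw [heq] at h1
  exact absurd (hi i j hlt (le_antisymm (blockOf_mono J hlt.le) (hsup i j hne))) (not_lt.2 h1)

theorem incrOn_empty (π : Equiv.Perm (Fin (m + 1))) : IncrOn (∅ : Finset (Fin m)) π := fun _ _ h e =>
  absurd e (blockOf_empty_lt h).ne

/-- Every invertible matrix has distinct pivots after an upper triangular column operation. -/
theorem exists_piv (g : GL (Fin (m + 1)) F) :
    ∃ b ∈ parabolic F (∅ : Finset (Fin m)), ∃ π, Piv (↑(g * b) : Matrix (Fin (m + 1)) (Fin (m + 1)) F) π := by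
  classical
  let G : Matrix (Fin (m + 1)) (Fin (m + 1)) F := g
  let good : Fin (m + 1) → ℕ → Prop := fun j k =>
    ∃ c : Fin (m + 1) → F, c j = 1 ∧ (∀ i, j < i → c i = 0) ∧ ∀ i : Fin (m + 1), k ≤ i.val → (G *ᵥ c) i = 0
  have hgood : ∀ j, ∃ k, good j k := fun j => ⟨m + 1, Pi.single j 1, by simp, fun i hi => by simp [hi.ne'],
    fun i hi => absurd i.isLt (not_lt.2 hi)⟩
  choose c hc1 hc2 hc3 using fun j => Nat.find_spec (hgood j)
  have hinj : Function.Injective (fun v => G *ᵥ v) :=
    Matrix.mulVec_injective_iff_isUnit.2 g.isUnit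
  have hpos : ∀ j, 0 < Nat.find (hgood j) := fun j => by
    by_contra h
    have h0 : G *ᵥ c j = G *ᵥ 0 := by
      rw [Matrix.mulVec_zero]
      exact funext fun i => hc3 j i (by omega)
    exact one_ne_zero ((hc1 j).symm.trans (congrFun (hinj h0) j))
  have hub : ∀ j, Nat.find (hgood j) ≤ m + 1 := fun j => Nat.find_le ⟨Pi.single j 1, by simp,
    fun i hi => by simp [hi.ne'], fun i hi => absurd i.isLt (not_lt.2 hi)⟩
  let p : Fin (m + 1) → Fin (m + 1) := fun j => ⟨Nat.find (hgood j) - 1, by have := hub j; have := hpos j; omega⟩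
  have hzero : ∀ j i, p j < i → (G *ᵥ c j) i = 0 := fun j i hi => hc3 j i (by
    have : Nat.find (hgood j) - 1 < i.val := hi
    omega)
  have hne : ∀ j, (G *ᵥ c j) (p j) ≠ 0 := fun j h => by
    have hlt : (p j).val < Nat.find (hgood j) := by
      change Nat.find (hgood j) - 1 < _
      have := hpos j
      omega
    refine Nat.find_min (hgood j) hlt ⟨c j, hc1 j, hc2 j, fun i hi => ?_⟩
    rcases eq_or_lt_of_le (show p j ≤ i from hi) with e | e
    · exact e ▸ h
    · exact hzero j i e
  have hlow : ∀ j j', j' < j → p j ≠ p j' := fun j j' hjj heq => by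
    have hlt : (p j).val < Nat.find (hgood j) := by
      change Nat.find (hgood j) - 1 < _
      have := hpos j
      omega
    refine Nat.find_min (hgood j) hlt ⟨c j - ((G *ᵥ c j) (p j) / (G *ᵥ c j') (p j)) • c j', ?_, fun i hi => ?_, fun i hi => ?_⟩
    · simp [hc1 j, hc2 j' j hjj]
    · simp [hc2 j i hi, hc2 j' i (lt_trans hjj hi)]
    · rw [Matrix.mulVec_sub, Matrix.mulVec_smul, Pi.sub_apply, Pi.smul_apply, smul_eq_mul]
      rcases eq_or_lt_of_le (show p j ≤ i from hi) with e | e
      · rw [← e, div_mul_cancel₀ _ (heq.symm ▸ hne j'), sub_self]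
      · rw [hzero j i e, hzero j' i (heq ▸ e), mul_zero, sub_zero]
  have hpinj : Function.Injective p := fun a a' h => by
    rcases lt_trichotomy a a' with hl | hl | hl
    · exact absurd h.symm (hlow a' a hl)
    · exact hl
    · exact absurd h (hlow a a' hl)
  let Bm : Matrix (Fin (m + 1)) (Fin (m + 1)) F := Matrix.of fun i j => c j i
  have htri : Bm.BlockTriangular id := fun i j hij => hc2 j i hij
  have hdet : Bm.det = 1 := by
    rw [Matrix.det_of_isUpperTriangular htri]
    exact Finset.prod_eq_one fun i _ => hc1 i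
  let b : GL (Fin (m + 1)) F := Matrix.GeneralLinearGroup.mkOfDetNeZero Bm (by rw [hdet]; exact one_ne_zero)
  refine ⟨b, fun i j hij => hc2 j i ?_, Equiv.ofBijective p (Finite.injective_iff_bijective.1 hpinj), fun j => ?_⟩
  · by_contra hge
    exact absurd hij (not_lt.2 (blockOf_mono _ (not_lt.1 hge)))
  · rw [Units.val_mul]
    exact ⟨hne j, hzero j⟩

/-- The pivot permutation of the class of a matrix. -/
def piv (g : GL (Fin (m + 1)) F) : Equiv.Perm (Fin (m + 1)) := (exists_piv g).choose_spec.2.choose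

theorem piv_eq {g b : GL (Fin (m + 1)) F} (hb : b ∈ parabolic F (∅ : Finset (Fin m)))
    {π : Equiv.Perm (Fin (m + 1))} (hπ : Piv (↑(g * b) : Matrix (Fin (m + 1)) (Fin (m + 1)) F) π) : piv g = π := by
  have h₀ := (exists_piv g).choose_spec
  have h1 := h₀.2.choose_spec
  refine (piv_unique ∅ (h := g * (exists_piv g).choose) (p := (exists_piv g).choose⁻¹ * b)
    (Subgroup.mul_mem _ (Subgroup.inv_mem _ h₀.1) hb) h1 ?_ (incrOn_empty _) (incrOn_empty _)).1.symm
  rwa [mul_assoc, mul_inv_cancel_left]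

theorem piv_mul {g b : GL (Fin (m + 1)) F} (hb : b ∈ parabolic F (∅ : Finset (Fin m))) : piv (g * b) = piv g := by
  have h₀ := (exists_piv g).choose_spec
  refine piv_eq (b := b⁻¹ * (exists_piv g).choose) (Subgroup.mul_mem _ (Subgroup.inv_mem _ hb) h₀.1) ?_
  rw [mul_assoc, mul_inv_cancel_left]
  exact h₀.2.choose_spec

theorem exists_rep (g : GL (Fin (m + 1)) F) :
    ∃ b ∈ parabolic F (∅ : Finset (Fin m)), Piv (↑(g * b) : Matrix (Fin (m + 1)) (Fin (m + 1)) F) (piv g) :=
  ⟨_, (exists_piv g).choose_spec.1, (exists_piv g).choose_spec.2.choose_spec⟩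

/-- The potential of a permutation. -/
def pot (π : Equiv.Perm (Fin (m + 1))) : ℕ := ∑ i, i.val * (π i).val

theorem incrOn_of_adj {J : Finset (Fin m)} {π : Equiv.Perm (Fin (m + 1))}
    (h : ∀ k ∈ J, π k.castSucc < π k.succ) : IncrOn J π := by
  intro i j hij he
  have key : ∀ n, ∀ j : Fin (m + 1), j.val = i.val + n + 1 → blockOf J i = blockOf J j → π i < π j := by
    intro n
    induction n with
    | zero =>
      intro j hj he
      let k : Fin m := ⟨i.val, by omega⟩
      have hk : k ∈ J := by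
        by_contra hk
        exact absurd he ((blockOf_lt_iff J).2 ⟨k, le_rfl, show i.val < j.val by omega, hk⟩).ne
      rw [show i = k.castSucc from Fin.ext rfl, show j = k.succ from Fin.ext hj]
      exact h k hk
    | succ n ih =>
      intro j hj he
      let k : Fin m := ⟨j.val - 1, by omega⟩
      have hk : k ∈ J := by
        by_contra hk
        exact absurd he ((blockOf_lt_iff J).2 ⟨k, show i.val ≤ j.val - 1 by omega, show j.val - 1 < j.val by omega, hk⟩).ne
      have hkv : k.castSucc.val = i.val + n + 1 := show j.val - 1 = _ by omega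
      have he' : blockOf J i = blockOf J k.castSucc :=
        le_antisymm (blockOf_mono J (Fin.le_def.2 (by omega)))
          (le_of_le_of_eq (blockOf_mono J (Fin.le_def.2 (by omega))) he.symm)
      rw [show j = k.succ from Fin.ext (show j.val = j.val - 1 + 1 by omega)]
      exact lt_trans (ih _ hkv he') (h k hk)
  exact key (j.val - i.val - 1) j (by omega) he

theorem exists_pot_lt {J : Finset (Fin m)} (g : GL (Fin (m + 1)) F) {k : Fin m} (hk : k ∈ J)
    (hdesc : ¬ piv g k.castSucc < piv g k.succ) : ∃ q ∈ parabolic F J, pot (piv g) < pot (piv (g * q)) := by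
  classical
  obtain ⟨b, hb, hpb⟩ := exists_rep g
  let s : GL (Fin (m + 1)) F := Matrix.GeneralLinearGroup.swap F k.castSucc k.succ
  have hne : k.castSucc ≠ k.succ := (Fin.castSucc_lt_succ).ne
  have hblock : blockOf J k.castSucc = blockOf J k.succ := by
    refine le_antisymm (blockOf_mono J Fin.castSucc_lt_succ.le) (not_lt.1 fun h => ?_)
    obtain ⟨l, h1, h2, h3⟩ := (blockOf_lt_iff J).1 h
    exact h3 (by rwa [show l = k from Fin.ext (by simp only [Fin.val_castSucc, Fin.val_succ] at h1 h2; omega)])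
  have hs : s ∈ parabolic F J := fun i j hij => by
    change Matrix.swap F k.castSucc k.succ i j = 0
    rw [Matrix.swap, Equiv.Perm.permMatrix, PEquiv.toMatrix_apply]
    refine if_neg fun h => ?_
    simp only [Equiv.toPEquiv_apply, Option.mem_def, Option.some.injEq] at h
    subst h
    revert hij
    rcases eq_or_ne i k.castSucc with e | e
    · subst e
      simp [hblock]
    · rcases eq_or_ne i k.succ with e' | e'
      · subst e'
        simp [hblock]
      · simp [Equiv.swap_apply_of_ne_of_ne e e']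
  refine ⟨b * s, Subgroup.mul_mem _ (parabolic_mono (Finset.empty_subset J) hb) hs, ?_⟩
  let π' : Equiv.Perm (Fin (m + 1)) := (Equiv.swap k.castSucc k.succ).trans (piv g)
  have hπ' : Piv (↑(g * (b * s)) : Matrix (Fin (m + 1)) (Fin (m + 1)) F) π' := fun j => by
    have hcol : ∀ i, (↑(g * (b * s)) : Matrix (Fin (m + 1)) (Fin (m + 1)) F) i j =
        (↑(g * b) : Matrix (Fin (m + 1)) (Fin (m + 1)) F) i (Equiv.swap k.castSucc k.succ j) := fun i => by
      rw [← mul_assoc, Units.val_mul (g * b) s]
      rcases eq_or_ne j k.castSucc with e | e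
      · subst e
        rw [Equiv.swap_apply_left]
        exact Matrix.mul_swap_apply_left _ _ _ _
      · rcases eq_or_ne j k.succ with e' | e'
        · subst e'
          rw [Equiv.swap_apply_right]
          exact Matrix.mul_swap_apply_right _ _ _ _
        · rw [Equiv.swap_apply_of_ne_of_ne e e']
          exact Matrix.mul_swap_of_ne e e' _
    refine ⟨?_, fun i hi => ?_⟩
    · rw [hcol]
      exact (hpb _).1
    · rw [hcol]
      exact (hpb _).2 i hi
  rw [piv_eq (Subgroup.one_mem _) (show Piv (↑(g * (b * s) * 1) : Matrix (Fin (m + 1)) (Fin (m + 1)) F) π' by rwa [mul_one])]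
  have hsplit : ∀ f : Fin (m + 1) → ℕ, ∑ i, f i = f k.castSucc + f k.succ +
      ∑ i ∈ ((Finset.univ.erase k.castSucc).erase k.succ), f i := fun f => by
    rw [add_assoc, Finset.add_sum_erase _ _ (Finset.mem_erase.2 ⟨hne.symm, Finset.mem_univ _⟩),
      Finset.add_sum_erase _ _ (Finset.mem_univ _)]
  unfold pot
  rw [hsplit, hsplit (fun i => i.val * (π' i).val)]
  have hrest : ∑ i ∈ ((Finset.univ.erase k.castSucc).erase k.succ), i.val * (π' i).val =
      ∑ i ∈ ((Finset.univ.erase k.castSucc).erase k.succ), i.val * (piv g i).val :=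
    Finset.sum_congr rfl fun i hi => by
      simp only [Finset.mem_erase] at hi
      simp only [π', Equiv.trans_apply, Equiv.swap_apply_of_ne_of_ne hi.2.1 hi.1]
  rw [hrest]
  simp only [π', Equiv.trans_apply, Equiv.swap_apply_left, Equiv.swap_apply_right, Fin.val_castSucc, Fin.val_succ]
  have hlt : (piv g k.succ).val < (piv g k.castSucc).val :=
    lt_of_le_of_ne (Fin.le_def.1 (not_lt.1 hdesc)) fun e => hne.symm ((piv g).injective (Fin.ext e))
  nlinarith

theorem pot_le (π : Equiv.Perm (Fin (m + 1))) : pot π ≤ (m + 1) * (m * m) := by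
  refine le_trans (Finset.sum_le_sum fun i _ => Nat.mul_le_mul (show i.val ≤ m by omega) (show (π i).val ≤ m by omega)) ?_
  simp

/-- Every coset of a parabolic subgroup has a representative with increasing pivots, of larger potential. -/
theorem exists_best (J : Finset (Fin m)) (g : GL (Fin (m + 1)) F) :
    ∃ q ∈ parabolic F J, (∀ k ∈ J, piv (g * q) k.castSucc < piv (g * q) k.succ) ∧
      pot (piv g) ≤ pot (piv (g * q)) ∧ ((∃ k ∈ J, ¬ piv g k.castSucc < piv g k.succ) → pot (piv g) < pot (piv (g * q))) := by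
  classical
  let P : ℕ → Prop := fun n => ∃ q ∈ parabolic F J, pot (piv (g * q)) = n
  let N := Nat.findGreatest P ((m + 1) * (m * m))
  have h1 : P (pot (piv g)) := ⟨1, Subgroup.one_mem _, by rw [mul_one]⟩
  have hmax : ∀ q ∈ parabolic F J, pot (piv (g * q)) ≤ N := fun q hq =>
    Nat.le_findGreatest (pot_le _) ⟨q, hq, rfl⟩
  obtain ⟨q, hq, hN⟩ : P N := Nat.findGreatest_spec (pot_le _) h1
  refine ⟨q, hq, fun k hk => ?_, ?_, fun ⟨k, hk, hd⟩ => ?_⟩
  · by_contra hd
    obtain ⟨q', hq', hlt⟩ := exists_pot_lt (g * q) hk hd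
    rw [mul_assoc] at hlt
    exact absurd (hmax _ (Subgroup.mul_mem _ hq hq')) (not_le.2 (hN ▸ hlt))
  · rw [hN]
    simpa using hmax 1 (Subgroup.one_mem _)
  · obtain ⟨q', hq', hlt⟩ := exists_pot_lt g hk hd
    exact lt_of_lt_of_le hlt (hN ▸ hmax q' hq')

/-- Representatives with increasing pivots in a parabolic coset are unique. -/
theorem unique_best {J : Finset (Fin m)} {g p : GL (Fin (m + 1)) F} (hp : p ∈ parabolic F J)
    (h : ∀ k ∈ J, piv g k.castSucc < piv g k.succ) (h' : ∀ k ∈ J, piv (g * p) k.castSucc < piv (g * p) k.succ) :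
    p ∈ parabolic F (∅ : Finset (Fin m)) := by
  obtain ⟨b, hb, hπ⟩ := exists_rep g
  obtain ⟨b', hb', hπ'⟩ := exists_rep (g * p)
  have hmem : b⁻¹ * (p * b') ∈ parabolic F J := Subgroup.mul_mem _
    (Subgroup.inv_mem _ (parabolic_mono (Finset.empty_subset J) hb))
    (Subgroup.mul_mem _ hp (parabolic_mono (Finset.empty_subset J) hb'))
  have h2 := (piv_unique J hmem hπ (π' := piv (g * p)) (by rwa [mul_assoc, mul_inv_cancel_left, ← mul_assoc])
    (incrOn_of_adj h) (incrOn_of_adj h')).2
  have := Subgroup.mul_mem _ (Subgroup.mul_mem _ hb h2) (Subgroup.inv_mem _ hb')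
  rwa [mul_inv_cancel_left, mul_inv_cancel_right] at this

end GrothLib.ParPerm20
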